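import Cfsg.Agent.Lib.ThG2.Acts

/-!
# Coordinates of the action of the root elements
-/

set_option autoImplicit false
set_option linter.unusedSectionVars false
set_option linter.unusedVariables false

namespace Cfsg.Agent.Lib.ThG2

open Cfsg Cfsg.Lie Cfsg.Agent.Lib.Chev Matrix

variable {F : Type*} [Field F]

theorem nv0_h0 (t : F) (v : V14 F) : nv0 t v (hh 0) = v (hh 0) - t * v (ee 11) := rfl
theorem nv0_h1 (t : F) (v : V14 F) : nv0 t v (hh 1) = v (hh 1) - 2 * t * v (ee 11) := rfl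
theorem nv0_e0 (t : F) (v : V14 F) : nv0 t v (ee 0) = v (ee 0) + t * v (hh 1) - t ^ 2 * v (ee 11) := rfl
theorem nv0_e1 (t : F) (v : V14 F) : nv0 t v (ee 1) = v (ee 1) + t * v (ee 6) := rfl
theorem nv0_e2 (t : F) (v : V14 F) : nv0 t v (ee 2) = v (ee 2) + t * v (ee 8) := rfl
theorem nv0_e3 (t : F) (v : V14 F) : nv0 t v (ee 3) = v (ee 3) - t * v (ee 9) := rfl
theorem nv0_e4 (t : F) (v : V14 F) : nv0 t v (ee 4) = v (ee 4) := rfl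
theorem nv0_e5 (t : F) (v : V14 F) : nv0 t v (ee 5) = v (ee 5) - t * v (ee 10) := rfl
theorem nv0_e6 (t : F) (v : V14 F) : nv0 t v (ee 6) = v (ee 6) := rfl
theorem nv0_e7 (t : F) (v : V14 F) : nv0 t v (ee 7) = v (ee 7) := rfl
theorem nv0_e8 (t : F) (v : V14 F) : nv0 t v (ee 8) = v (ee 8) := rfl
theorem nv0_e9 (t : F) (v : V14 F) : nv0 t v (ee 9) = v (ee 9) := rfl
theorem nv0_e10 (t : F) (v : V14 F) : nv0 t v (ee 10) = v (ee 10) := rfl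
theorem nv0_e11 (t : F) (v : V14 F) : nv0 t v (ee 11) = v (ee 11) := rfl
theorem nv1_h0 (t : F) (v : V14 F) : nv1 t v (hh 0) = v (hh 0) - t * v (ee 10) := rfl
theorem nv1_h1 (t : F) (v : V14 F) : nv1 t v (hh 1) = v (hh 1) - t * v (ee 10) := rfl
theorem nv1_e0 (t : F) (v : V14 F) : nv1 t v (ee 0) = v (ee 0) + t * v (ee 5) := rfl
theorem nv1_e1 (t : F) (v : V14 F) : nv1 t v (ee 1) = v (ee 1) + 3 * t * v (hh 0) - t * v (hh 1) - t ^ 2 * v (ee 10) := rfl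
theorem nv1_e2 (t : F) (v : V14 F) : nv1 t v (ee 2) = v (ee 2) + t * v (ee 7) := rfl
theorem nv1_e3 (t : F) (v : V14 F) : nv1 t v (ee 3) = v (ee 3) := rfl
theorem nv1_e4 (t : F) (v : V14 F) : nv1 t v (ee 4) = v (ee 4) - t * v (ee 9) := rfl
theorem nv1_e5 (t : F) (v : V14 F) : nv1 t v (ee 5) = v (ee 5) := rfl
theorem nv1_e6 (t : F) (v : V14 F) : nv1 t v (ee 6) = v (ee 6) - t * v (ee 11) := rfl
theorem nv1_e7 (t : F) (v : V14 F) : nv1 t v (ee 7) = v (ee 7) := rfl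
theorem nv1_e8 (t : F) (v : V14 F) : nv1 t v (ee 8) = v (ee 8) := rfl
theorem nv1_e9 (t : F) (v : V14 F) : nv1 t v (ee 9) = v (ee 9) := rfl
theorem nv1_e10 (t : F) (v : V14 F) : nv1 t v (ee 10) = v (ee 10) := rfl
theorem nv1_e11 (t : F) (v : V14 F) : nv1 t v (ee 11) = v (ee 11) := rfl
theorem nv2_h0 (t : F) (v : V14 F) : nv2 t v (hh 0) = v (hh 0) - 2 * t * v (ee 9) := rfl
theorem nv2_h1 (t : F) (v : V14 F) : nv2 t v (hh 1) = v (hh 1) - 3 * t * v (ee 9) := rfl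
theorem nv2_e0 (t : F) (v : V14 F) : nv2 t v (ee 0) = v (ee 0) + 3 * t * v (ee 3) - 3 * t ^ 2 * v (ee 7) + t ^ 3 * v (ee 10) := rfl
theorem nv2_e1 (t : F) (v : V14 F) : nv2 t v (ee 1) = v (ee 1) + 3 * t * v (ee 4) + 3 * t ^ 2 * v (ee 8) - t ^ 3 * v (ee 11) := rfl
theorem nv2_e2 (t : F) (v : V14 F) : nv2 t v (ee 2) = v (ee 2) + t * v (hh 0) - t ^ 2 * v (ee 9) := rfl
theorem nv2_e3 (t : F) (v : V14 F) : nv2 t v (ee 3) = v (ee 3) - 2 * t * v (ee 7) + t ^ 2 * v (ee 10) := rfl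
theorem nv2_e4 (t : F) (v : V14 F) : nv2 t v (ee 4) = v (ee 4) + 2 * t * v (ee 8) - t ^ 2 * v (ee 11) := rfl
theorem nv2_e5 (t : F) (v : V14 F) : nv2 t v (ee 5) = v (ee 5) := rfl
theorem nv2_e6 (t : F) (v : V14 F) : nv2 t v (ee 6) = v (ee 6) := rfl
theorem nv2_e7 (t : F) (v : V14 F) : nv2 t v (ee 7) = v (ee 7) - t * v (ee 10) := rfl
theorem nv2_e8 (t : F) (v : V14 F) : nv2 t v (ee 8) = v (ee 8) - t * v (ee 11) := rfl
theorem nv2_e9 (t : F) (v : V14 F) : nv2 t v (ee 9) = v (ee 9) := rfl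
theorem nv2_e10 (t : F) (v : V14 F) : nv2 t v (ee 10) = v (ee 10) := rfl
theorem nv2_e11 (t : F) (v : V14 F) : nv2 t v (ee 11) = v (ee 11) := rfl
theorem nv3_h0 (t : F) (v : V14 F) : nv3 t v (hh 0) = v (hh 0) - t * v (ee 8) := rfl
theorem nv3_h1 (t : F) (v : V14 F) : nv3 t v (hh 1) = v (hh 1) - 3 * t * v (ee 8) := rfl
theorem nv3_e0 (t : F) (v : V14 F) : nv3 t v (ee 0) = v (ee 0) - 3 * t * v (ee 2) + 3 * t ^ 2 * v (ee 4) + t ^ 3 * v (ee 6) := rfl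
theorem nv3_e1 (t : F) (v : V14 F) : nv3 t v (ee 1) = v (ee 1) := rfl
theorem nv3_e2 (t : F) (v : V14 F) : nv3 t v (ee 2) = v (ee 2) - 2 * t * v (ee 4) - t ^ 2 * v (ee 6) := rfl
theorem nv3_e3 (t : F) (v : V14 F) : nv3 t v (ee 3) = v (ee 3) - t * v (hh 0) + t * v (hh 1) - t ^ 2 * v (ee 8) := rfl
theorem nv3_e4 (t : F) (v : V14 F) : nv3 t v (ee 4) = v (ee 4) + t * v (ee 6) := rfl
theorem nv3_e5 (t : F) (v : V14 F) : nv3 t v (ee 5) = v (ee 5) - 3 * t * v (ee 7) - 3 * t ^ 2 * v (ee 9) - t ^ 3 * v (ee 11) := rfl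
theorem nv3_e6 (t : F) (v : V14 F) : nv3 t v (ee 6) = v (ee 6) := rfl
theorem nv3_e7 (t : F) (v : V14 F) : nv3 t v (ee 7) = v (ee 7) + 2 * t * v (ee 9) + t ^ 2 * v (ee 11) := rfl
theorem nv3_e8 (t : F) (v : V14 F) : nv3 t v (ee 8) = v (ee 8) := rfl
theorem nv3_e9 (t : F) (v : V14 F) : nv3 t v (ee 9) = v (ee 9) + t * v (ee 11) := rfl
theorem nv3_e10 (t : F) (v : V14 F) : nv3 t v (ee 10) = v (ee 10) := rfl
theorem nv3_e11 (t : F) (v : V14 F) : nv3 t v (ee 11) = v (ee 11) := rfl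
theorem nv4_h0 (t : F) (v : V14 F) : nv4 t v (hh 0) = v (hh 0) - t * v (ee 7) := rfl
theorem nv4_h1 (t : F) (v : V14 F) : nv4 t v (hh 1) = v (hh 1) := rfl
theorem nv4_e0 (t : F) (v : V14 F) : nv4 t v (ee 0) = v (ee 0) := rfl
theorem nv4_e1 (t : F) (v : V14 F) : nv4 t v (ee 1) = v (ee 1) - 3 * t * v (ee 2) - 3 * t ^ 2 * v (ee 3) - t ^ 3 * v (ee 5) := rfl
theorem nv4_e2 (t : F) (v : V14 F) : nv4 t v (ee 2) = v (ee 2) + 2 * t * v (ee 3) + t ^ 2 * v (ee 5) := rfl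
theorem nv4_e3 (t : F) (v : V14 F) : nv4 t v (ee 3) = v (ee 3) + t * v (ee 5) := rfl
theorem nv4_e4 (t : F) (v : V14 F) : nv4 t v (ee 4) = v (ee 4) + 2 * t * v (hh 0) - t * v (hh 1) - t ^ 2 * v (ee 7) := rfl
theorem nv4_e5 (t : F) (v : V14 F) : nv4 t v (ee 5) = v (ee 5) := rfl
theorem nv4_e6 (t : F) (v : V14 F) : nv4 t v (ee 6) = v (ee 6) - 3 * t * v (ee 8) + 3 * t ^ 2 * v (ee 9) + t ^ 3 * v (ee 10) := rfl
theorem nv4_e7 (t : F) (v : V14 F) : nv4 t v (ee 7) = v (ee 7) := rfl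
theorem nv4_e8 (t : F) (v : V14 F) : nv4 t v (ee 8) = v (ee 8) - 2 * t * v (ee 9) - t ^ 2 * v (ee 10) := rfl
theorem nv4_e9 (t : F) (v : V14 F) : nv4 t v (ee 9) = v (ee 9) + t * v (ee 10) := rfl
theorem nv4_e10 (t : F) (v : V14 F) : nv4 t v (ee 10) = v (ee 10) := rfl
theorem nv4_e11 (t : F) (v : V14 F) : nv4 t v (ee 11) = v (ee 11) := rfl
theorem nv5_h0 (t : F) (v : V14 F) : nv5 t v (hh 0) = v (hh 0) := rfl
theorem nv5_h1 (t : F) (v : V14 F) : nv5 t v (hh 1) = v (hh 1) - t * v (ee 6) := rfl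
theorem nv5_e0 (t : F) (v : V14 F) : nv5 t v (ee 0) = v (ee 0) - t * v (ee 1) := rfl
theorem nv5_e1 (t : F) (v : V14 F) : nv5 t v (ee 1) = v (ee 1) := rfl
theorem nv5_e2 (t : F) (v : V14 F) : nv5 t v (ee 2) = v (ee 2) := rfl
theorem nv5_e3 (t : F) (v : V14 F) : nv5 t v (ee 3) = v (ee 3) - t * v (ee 4) := rfl
theorem nv5_e4 (t : F) (v : V14 F) : nv5 t v (ee 4) = v (ee 4) := rfl
theorem nv5_e5 (t : F) (v : V14 F) : nv5 t v (ee 5) = v (ee 5) - 3 * t * v (hh 0) + 2 * t * v (hh 1) - t ^ 2 * v (ee 6) := rfl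
theorem nv5_e6 (t : F) (v : V14 F) : nv5 t v (ee 6) = v (ee 6) := rfl
theorem nv5_e7 (t : F) (v : V14 F) : nv5 t v (ee 7) = v (ee 7) + t * v (ee 8) := rfl
theorem nv5_e8 (t : F) (v : V14 F) : nv5 t v (ee 8) = v (ee 8) := rfl
theorem nv5_e9 (t : F) (v : V14 F) : nv5 t v (ee 9) = v (ee 9) := rfl
theorem nv5_e10 (t : F) (v : V14 F) : nv5 t v (ee 10) = v (ee 10) + t * v (ee 11) := rfl
theorem nv5_e11 (t : F) (v : V14 F) : nv5 t v (ee 11) = v (ee 11) := rfl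
theorem nv6_h0 (t : F) (v : V14 F) : nv6 t v (hh 0) = v (hh 0) := rfl
theorem nv6_h1 (t : F) (v : V14 F) : nv6 t v (hh 1) = v (hh 1) + t * v (ee 5) := rfl
theorem nv6_e0 (t : F) (v : V14 F) : nv6 t v (ee 0) = v (ee 0) := rfl
theorem nv6_e1 (t : F) (v : V14 F) : nv6 t v (ee 1) = v (ee 1) - t * v (ee 0) := rfl
theorem nv6_e2 (t : F) (v : V14 F) : nv6 t v (ee 2) = v (ee 2) := rfl
theorem nv6_e3 (t : F) (v : V14 F) : nv6 t v (ee 3) = v (ee 3) := rfl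
theorem nv6_e4 (t : F) (v : V14 F) : nv6 t v (ee 4) = v (ee 4) - t * v (ee 3) := rfl
theorem nv6_e5 (t : F) (v : V14 F) : nv6 t v (ee 5) = v (ee 5) := rfl
theorem nv6_e6 (t : F) (v : V14 F) : nv6 t v (ee 6) = v (ee 6) + 3 * t * v (hh 0) - 2 * t * v (hh 1) - t ^ 2 * v (ee 5) := rfl
theorem nv6_e7 (t : F) (v : V14 F) : nv6 t v (ee 7) = v (ee 7) := rfl
theorem nv6_e8 (t : F) (v : V14 F) : nv6 t v (ee 8) = v (ee 8) + t * v (ee 7) := rfl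
theorem nv6_e9 (t : F) (v : V14 F) : nv6 t v (ee 9) = v (ee 9) := rfl
theorem nv6_e10 (t : F) (v : V14 F) : nv6 t v (ee 10) = v (ee 10) := rfl
theorem nv6_e11 (t : F) (v : V14 F) : nv6 t v (ee 11) = v (ee 11) + t * v (ee 10) := rfl
theorem nv7_h0 (t : F) (v : V14 F) : nv7 t v (hh 0) = v (hh 0) + t * v (ee 4) := rfl
theorem nv7_h1 (t : F) (v : V14 F) : nv7 t v (hh 1) = v (hh 1) := rfl
theorem nv7_e0 (t : F) (v : V14 F) : nv7 t v (ee 0) = v (ee 0) := rfl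
theorem nv7_e1 (t : F) (v : V14 F) : nv7 t v (ee 1) = v (ee 1) := rfl
theorem nv7_e2 (t : F) (v : V14 F) : nv7 t v (ee 2) = v (ee 2) - t * v (ee 1) := rfl
theorem nv7_e3 (t : F) (v : V14 F) : nv7 t v (ee 3) = v (ee 3) - t ^ 2 * v (ee 1) + 2 * t * v (ee 2) := rfl
theorem nv7_e4 (t : F) (v : V14 F) : nv7 t v (ee 4) = v (ee 4) := rfl
theorem nv7_e5 (t : F) (v : V14 F) : nv7 t v (ee 5) = v (ee 5) - t ^ 3 * v (ee 1) + 3 * t ^ 2 * v (ee 2) + 3 * t * v (ee 3) := rfl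
theorem nv7_e6 (t : F) (v : V14 F) : nv7 t v (ee 6) = v (ee 6) := rfl
theorem nv7_e7 (t : F) (v : V14 F) : nv7 t v (ee 7) = v (ee 7) - 2 * t * v (hh 0) + t * v (hh 1) - t ^ 2 * v (ee 4) := rfl
theorem nv7_e8 (t : F) (v : V14 F) : nv7 t v (ee 8) = v (ee 8) - t * v (ee 6) := rfl
theorem nv7_e9 (t : F) (v : V14 F) : nv7 t v (ee 9) = v (ee 9) + t ^ 2 * v (ee 6) - 2 * t * v (ee 8) := rfl
theorem nv7_e10 (t : F) (v : V14 F) : nv7 t v (ee 10) = v (ee 10) + t ^ 3 * v (ee 6) - 3 * t ^ 2 * v (ee 8) + 3 * t * v (ee 9) := rfl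
theorem nv7_e11 (t : F) (v : V14 F) : nv7 t v (ee 11) = v (ee 11) := rfl
theorem nv8_h0 (t : F) (v : V14 F) : nv8 t v (hh 0) = v (hh 0) + t * v (ee 3) := rfl
theorem nv8_h1 (t : F) (v : V14 F) : nv8 t v (hh 1) = v (hh 1) + 3 * t * v (ee 3) := rfl
theorem nv8_e0 (t : F) (v : V14 F) : nv8 t v (ee 0) = v (ee 0) := rfl
theorem nv8_e1 (t : F) (v : V14 F) : nv8 t v (ee 1) = v (ee 1) := rfl
theorem nv8_e2 (t : F) (v : V14 F) : nv8 t v (ee 2) = v (ee 2) - t * v (ee 0) := rfl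
theorem nv8_e3 (t : F) (v : V14 F) : nv8 t v (ee 3) = v (ee 3) := rfl
theorem nv8_e4 (t : F) (v : V14 F) : nv8 t v (ee 4) = v (ee 4) + t ^ 2 * v (ee 0) - 2 * t * v (ee 2) := rfl
theorem nv8_e5 (t : F) (v : V14 F) : nv8 t v (ee 5) = v (ee 5) := rfl
theorem nv8_e6 (t : F) (v : V14 F) : nv8 t v (ee 6) = v (ee 6) + t ^ 3 * v (ee 0) - 3 * t ^ 2 * v (ee 2) + 3 * t * v (ee 4) := rfl
theorem nv8_e7 (t : F) (v : V14 F) : nv8 t v (ee 7) = v (ee 7) - t * v (ee 5) := rfl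
theorem nv8_e8 (t : F) (v : V14 F) : nv8 t v (ee 8) = v (ee 8) + t * v (hh 0) - t * v (hh 1) - t ^ 2 * v (ee 3) := rfl
theorem nv8_e9 (t : F) (v : V14 F) : nv8 t v (ee 9) = v (ee 9) - t ^ 2 * v (ee 5) + 2 * t * v (ee 7) := rfl
theorem nv8_e10 (t : F) (v : V14 F) : nv8 t v (ee 10) = v (ee 10) := rfl
theorem nv8_e11 (t : F) (v : V14 F) : nv8 t v (ee 11) = v (ee 11) - t ^ 3 * v (ee 5) + 3 * t ^ 2 * v (ee 7) + 3 * t * v (ee 9) := rfl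
theorem nv9_h0 (t : F) (v : V14 F) : nv9 t v (hh 0) = v (hh 0) + 2 * t * v (ee 2) := rfl
theorem nv9_h1 (t : F) (v : V14 F) : nv9 t v (hh 1) = v (hh 1) + 3 * t * v (ee 2) := rfl
theorem nv9_e0 (t : F) (v : V14 F) : nv9 t v (ee 0) = v (ee 0) := rfl
theorem nv9_e1 (t : F) (v : V14 F) : nv9 t v (ee 1) = v (ee 1) := rfl
theorem nv9_e2 (t : F) (v : V14 F) : nv9 t v (ee 2) = v (ee 2) := rfl
theorem nv9_e3 (t : F) (v : V14 F) : nv9 t v (ee 3) = v (ee 3) + t * v (ee 0) := rfl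
theorem nv9_e4 (t : F) (v : V14 F) : nv9 t v (ee 4) = v (ee 4) + t * v (ee 1) := rfl
theorem nv9_e5 (t : F) (v : V14 F) : nv9 t v (ee 5) = v (ee 5) := rfl
theorem nv9_e6 (t : F) (v : V14 F) : nv9 t v (ee 6) = v (ee 6) := rfl
theorem nv9_e7 (t : F) (v : V14 F) : nv9 t v (ee 7) = v (ee 7) - t ^ 2 * v (ee 0) - 2 * t * v (ee 3) := rfl
theorem nv9_e8 (t : F) (v : V14 F) : nv9 t v (ee 8) = v (ee 8) + t ^ 2 * v (ee 1) + 2 * t * v (ee 4) := rfl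
theorem nv9_e9 (t : F) (v : V14 F) : nv9 t v (ee 9) = v (ee 9) - t * v (hh 0) - t ^ 2 * v (ee 2) := rfl
theorem nv9_e10 (t : F) (v : V14 F) : nv9 t v (ee 10) = v (ee 10) + t ^ 3 * v (ee 0) + 3 * t ^ 2 * v (ee 3) - 3 * t * v (ee 7) := rfl
theorem nv9_e11 (t : F) (v : V14 F) : nv9 t v (ee 11) = v (ee 11) - t ^ 3 * v (ee 1) - 3 * t ^ 2 * v (ee 4) - 3 * t * v (ee 8) := rfl
theorem nv10_h0 (t : F) (v : V14 F) : nv10 t v (hh 0) = v (hh 0) + t * v (ee 1) := rfl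
theorem nv10_h1 (t : F) (v : V14 F) : nv10 t v (hh 1) = v (hh 1) + t * v (ee 1) := rfl
theorem nv10_e0 (t : F) (v : V14 F) : nv10 t v (ee 0) = v (ee 0) := rfl
theorem nv10_e1 (t : F) (v : V14 F) : nv10 t v (ee 1) = v (ee 1) := rfl
theorem nv10_e2 (t : F) (v : V14 F) : nv10 t v (ee 2) = v (ee 2) := rfl
theorem nv10_e3 (t : F) (v : V14 F) : nv10 t v (ee 3) = v (ee 3) := rfl
theorem nv10_e4 (t : F) (v : V14 F) : nv10 t v (ee 4) = v (ee 4) := rfl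
theorem nv10_e5 (t : F) (v : V14 F) : nv10 t v (ee 5) = v (ee 5) + t * v (ee 0) := rfl
theorem nv10_e6 (t : F) (v : V14 F) : nv10 t v (ee 6) = v (ee 6) := rfl
theorem nv10_e7 (t : F) (v : V14 F) : nv10 t v (ee 7) = v (ee 7) + t * v (ee 2) := rfl
theorem nv10_e8 (t : F) (v : V14 F) : nv10 t v (ee 8) = v (ee 8) := rfl
theorem nv10_e9 (t : F) (v : V14 F) : nv10 t v (ee 9) = v (ee 9) - t * v (ee 4) := rfl
theorem nv10_e10 (t : F) (v : V14 F) : nv10 t v (ee 10) = v (ee 10) - 3 * t * v (hh 0) + t * v (hh 1) - t ^ 2 * v (ee 1) := rfl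
theorem nv10_e11 (t : F) (v : V14 F) : nv10 t v (ee 11) = v (ee 11) - t * v (ee 6) := rfl
theorem nv11_h0 (t : F) (v : V14 F) : nv11 t v (hh 0) = v (hh 0) + t * v (ee 0) := rfl
theorem nv11_h1 (t : F) (v : V14 F) : nv11 t v (hh 1) = v (hh 1) + 2 * t * v (ee 0) := rfl
theorem nv11_e0 (t : F) (v : V14 F) : nv11 t v (ee 0) = v (ee 0) := rfl
theorem nv11_e1 (t : F) (v : V14 F) : nv11 t v (ee 1) = v (ee 1) := rfl
theorem nv11_e2 (t : F) (v : V14 F) : nv11 t v (ee 2) = v (ee 2) := rfl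
theorem nv11_e3 (t : F) (v : V14 F) : nv11 t v (ee 3) = v (ee 3) := rfl
theorem nv11_e4 (t : F) (v : V14 F) : nv11 t v (ee 4) = v (ee 4) := rfl
theorem nv11_e5 (t : F) (v : V14 F) : nv11 t v (ee 5) = v (ee 5) := rfl
theorem nv11_e6 (t : F) (v : V14 F) : nv11 t v (ee 6) = v (ee 6) + t * v (ee 1) := rfl
theorem nv11_e7 (t : F) (v : V14 F) : nv11 t v (ee 7) = v (ee 7) := rfl
theorem nv11_e8 (t : F) (v : V14 F) : nv11 t v (ee 8) = v (ee 8) + t * v (ee 2) := rfl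
theorem nv11_e9 (t : F) (v : V14 F) : nv11 t v (ee 9) = v (ee 9) - t * v (ee 3) := rfl
theorem nv11_e10 (t : F) (v : V14 F) : nv11 t v (ee 10) = v (ee 10) - t * v (ee 5) := rfl
theorem nv11_e11 (t : F) (v : V14 F) : nv11 t v (ee 11) = v (ee 11) - t * v (hh 1) - t ^ 2 * v (ee 0) := rfl

end Cfsg.Agent.Lib.ThG2
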